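import Groth.Agent.Comodule.AffineQuotient
import Groth.Agent.Comodule.ReynoldsOp
import Groth.Agent.GeomQuotLib.Descent
import Groth.Agent.SchDesc.Cover
import Groth.Agent.S3873
import Groth.Prelude.Def_GLin2
import Mathlib

/-! The quotient of an affine group by a linearly reductive subgroup is affine. -/

set_option autoImplicit false
set_option backward.isDefEq.respectTransparency false
universe u

open CategoryTheory CategoryTheory.Limits MonoidalCategory CartesianMonoidalCategory MonObj AlgebraicGeometry WithConv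
open scoped TensorProduct

noncomputable section

namespace Groth.Agent.LinRedQuot

variable {k : Type u} [Field k] {AG AH : Type u} [CommRing AG] [HopfAlgebra k AG]
  [CommRing AH] [HopfAlgebra k AH]

/-- Right translation by the subgroup, on functions. -/
def deltaR (ψ : AG →ₐc[k] AH) : AG →ₐ[k] AG ⊗[k] AH :=
  (Algebra.TensorProduct.map (AlgHom.id k AG) (ψ : AG →ₐ[k] AH)).comp (Bialgebra.comulAlgHom k AG)

theorem deltaR_eq (ψ : AG →ₐc[k] AH) :
    (toConv (Algebra.TensorProduct.includeLeft : AG →ₐ[k] AG ⊗[k] AH) *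
      toConv ((Algebra.TensorProduct.includeRight : AH →ₐ[k] AG ⊗[k] AH).comp (ψ : AG →ₐ[k] AH))).ofConv =
      deltaR ψ := by
  refine AlgHom.ext fun a => ?_
  rw [AlgHom.convMul_apply]
  simp only [deltaR, AlgHom.comp_apply, Bialgebra.comulAlgHom_apply, ofConv_toConv]
  induction Coalgebra.comul (R := k) a with
  | zero => simp
  | add p q hp hq => simp only [map_add, hp, hq]
  | tmul x y => simp

variable (ψ : AG →ₐc[k] AH) [IsMonHom (CoactBr.pt (ψ : AG →ₐ[k] AH))]
  {Q : Over (Spec (CommRingCat.of k))} (q : CoactBr.sp k AG ⟶ Q)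
  (hq : RedSub.IsQuotient (CoactBr.pt (ψ : AG →ₐ[k] AH)) q)

/-- Pulling functions back to the group. -/
def qΓ : Γ(Q.left, ⊤) →+* AG :=
  (Scheme.ΓSpecIso (CommRingCat.of AG)).hom.hom.comp (show Spec (CommRingCat.of AG) ⟶ Q.left from q.left).appTop.hom

/-- The quotient map on the underlying affine scheme. -/
def qS : Spec (CommRingCat.of AG) ⟶ Q.left := q.left

/-- The comparison point of `G × H`. -/
def prodPt : CoactBr.sp k (AG ⊗[k] AH) ⟶ CoactBr.sp k AG ⊗ CoactBr.sp k AH :=
  lift (CoactBr.pt (Algebra.TensorProduct.includeLeft : AG →ₐ[k] AG ⊗[k] AH))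
    (CoactBr.pt (Algebra.TensorProduct.includeRight : AH →ₐ[k] AG ⊗[k] AH))

theorem prodPt_left : (prodPt (k := k) (AG := AG) (AH := AH)).left = (pullbackSpecIso k AG AH).inv := by
  refine pullback.hom_ext ?_ ?_
  · refine (?_ : _ = Spec.map (CommRingCat.ofHom _)).trans (pullbackSpecIso_inv_fst k AG AH).symm
    exact congrArg CommaMorphism.left (lift_fst
      (CoactBr.pt (Algebra.TensorProduct.includeLeft : AG →ₐ[k] AG ⊗[k] AH))
      (CoactBr.pt (Algebra.TensorProduct.includeRight : AH →ₐ[k] AG ⊗[k] AH)))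
  · refine (?_ : _ = Spec.map (CommRingCat.ofHom _)).trans (pullbackSpecIso_inv_snd k AG AH).symm
    exact congrArg CommaMorphism.left (lift_snd
      (CoactBr.pt (Algebra.TensorProduct.includeLeft : AG →ₐ[k] AG ⊗[k] AH))
      (CoactBr.pt (Algebra.TensorProduct.includeRight : AH →ₐ[k] AG ⊗[k] AH)))

instance isIso_prodPt_left : IsIso (prodPt (k := k) (AG := AG) (AH := AH)).left := by
  rw [prodPt_left]; infer_instance

theorem prodPt_action :
    prodPt ≫ (CoactBr.sp k AG ◁ CoactBr.pt (ψ : AG →ₐ[k] AH)) ≫ MonObj.mul (X := CoactBr.sp k AG) =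
      CoactBr.pt (deltaR ψ) := by
  rw [prodPt, Comodule.AffineQuotient.lift_whisker_mul ψ, deltaR_eq]

include hq in
theorem pt_comp_eq : CoactBr.pt (Algebra.TensorProduct.includeLeft : AG →ₐ[k] AG ⊗[k] AH) ≫ q =
    CoactBr.pt (deltaR ψ) ≫ q := by
  rw [← prodPt_action ψ, ← lift_fst (CoactBr.pt (Algebra.TensorProduct.includeLeft : AG →ₐ[k] AG ⊗[k] AH))
    (CoactBr.pt (Algebra.TensorProduct.includeRight : AH →ₐ[k] AG ⊗[k] AH))]
  exact (Category.assoc _ _ _).trans ((congrArg (prodPt ≫ ·) hq.2.2.2.w).trans (Category.assoc _ _ _).symm)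

include hq in
theorem effectiveEpi_left : EffectiveEpi q.left := by
  haveI := hq.1; haveI := hq.2.1; haveI := hq.2.2.1
  haveI := SchDesc.IsFpqc.of_locallyOfFinitePresentation q.left
  infer_instance

include hq in
theorem qΓ_injective : Function.Injective (qΓ q) := by
  haveI := effectiveEpi_left ψ q hq
  exact (Scheme.ΓSpecIso (CommRingCat.of AG)).commRingCatIsoToRingEquiv.injective.comp
    (GeomQuotLib.app_descent q.left).1

include hq in
/-- Invariant functions come from the quotient. -/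
theorem exists_qΓ {a : AG} (ha : deltaR ψ a = a ⊗ₜ[k] (1 : AH)) : ∃ b, qΓ q b = a := by
  haveI := effectiveEpi_left ψ q hq
  let e := Scheme.ΓSpecIso (CommRingCat.of AG)
  obtain ⟨s, hs⟩ := (GeomQuotLib.app_descent q.left).2 (e.inv.hom a) (fun Z g₁ g₂ hg => by
    have sq : IsPullback (fst (CoactBr.sp k AG) (CoactBr.sp k AH)).left
        ((CoactBr.sp k AG ◁ CoactBr.pt (ψ : AG →ₐ[k] AH)) ≫ MonObj.mul (X := CoactBr.sp k AG)).left q.left q.left :=
      hq.2.2.2.map (Over.forget _)
    let l := sq.lift g₁ g₂ hg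
    let l' := l ≫ inv (prodPt (k := k) (AG := AG) (AH := AH)).left
    have h1 : l' ≫ Spec.map (CommRingCat.ofHom
        (Algebra.TensorProduct.includeLeft : AG →ₐ[k] AG ⊗[k] AH).toRingHom) = g₁ := by
      refine Eq.trans ?_ (sq.lift_fst g₁ g₂ hg)
      simp only [l', Category.assoc]
      refine congrArg (l ≫ ·) ?_
      rw [IsIso.inv_comp_eq]
      exact (congrArg CommaMorphism.left (lift_fst
        (CoactBr.pt (Algebra.TensorProduct.includeLeft : AG →ₐ[k] AG ⊗[k] AH))
        (CoactBr.pt (Algebra.TensorProduct.includeRight : AH →ₐ[k] AG ⊗[k] AH)))).symm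
    have h2 : l' ≫ Spec.map (CommRingCat.ofHom (deltaR ψ).toRingHom) = g₂ := by
      refine Eq.trans ?_ (sq.lift_snd g₁ g₂ hg)
      simp only [l', Category.assoc]
      refine congrArg (l ≫ ·) ?_
      rw [IsIso.inv_comp_eq]
      exact (congrArg CommaMorphism.left (prodPt_action (k := k) ψ)).symm
    rw [← h1, ← h2, Scheme.Hom.comp_appTop, Scheme.Hom.comp_appTop, CommRingCat.comp_apply, CommRingCat.comp_apply]
    refine congrArg _ ?_
    have key : ∀ φ : AG →+* AG ⊗[k] AH, (Spec.map (CommRingCat.ofHom φ)).appTop (e.inv.hom a) =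
        (Scheme.ΓSpecIso (CommRingCat.of (AG ⊗[k] AH))).inv.hom (φ a) := fun φ =>
      (congrArg (fun f : CommRingCat.of AG ⟶ _ => f.hom a)
        (Scheme.ΓSpecIso_inv_naturality (CommRingCat.ofHom φ))).symm
    refine congrArg _ ?_
    exact (key (Algebra.TensorProduct.includeLeft : AG →ₐ[k] AG ⊗[k] AH).toRingHom).trans
      ((congrArg _ ha.symm).trans (key (deltaR ψ).toRingHom).symm))
  refine ⟨s, ?_⟩
  show e.hom.hom (q.left.appTop s) = a
  rw [hs]
  exact congrArg (fun f : CommRingCat.of AG ⟶ CommRingCat.of AG => f.hom a) e.inv_hom_id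

/-- The ideal of the preimage of a closed set of the quotient. -/
def zIdeal (Z : TopologicalSpace.Closeds Q.left) : Ideal AG :=
  (((Scheme.IdealSheafData.vanishingIdeal Z).comap (qS q)).ideal ⟨⊤, isAffineOpen_top _⟩).map
    (Scheme.ΓSpecIso (CommRingCat.of AG)).hom.hom

theorem idealSpec_zIdeal (Z : TopologicalSpace.Closeds Q.left) :
    (Scheme.IdealSheafData.vanishingIdeal Z).comap (qS q) = FSch.idealSpec AG (zIdeal q Z) := by
  refine Scheme.IdealSheafData.ext_of_isAffine ?_
  rw [S3873.idealSpec_top, zIdeal, Ideal.map_map, ← CommRingCat.hom_comp, Iso.hom_inv_id, CommRingCat.hom_id,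
    Ideal.map_id]

theorem le_iff_mem (Z : TopologicalSpace.Closeds Q.left) (p : Spec (CommRingCat.of AG)) :
    zIdeal q Z ≤ p.asIdeal ↔ qS q p ∈ Z := by
  have h : p ∈ ((Scheme.IdealSheafData.vanishingIdeal Z).comap (qS q)).support ↔ qS q p ∈ Z := by
    rw [Scheme.IdealSheafData.support_comap]
    change qS q p ∈ ((Scheme.IdealSheafData.vanishingIdeal Z).support : Set Q.left) ↔ _
    rw [Scheme.IdealSheafData.coe_support_vanishingIdeal]
    rfl
  rw [← h, idealSpec_zIdeal, Scheme.IdealSheafData.mem_support_iff_of_mem (U := ⟨⊤, isAffineOpen_top _⟩) trivial,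
    S3873.idealSpec_top]
  change zIdeal q Z ≤ p.asIdeal ↔ _
  rw [Scheme.mem_zeroLocus_iff]
  constructor
  · intro hle f hf
    have hf' : (Scheme.ΓSpecIso (CommRingCat.of AG)).hom.hom f ∈ zIdeal q Z := by
      have := Ideal.mem_map_of_mem (Scheme.ΓSpecIso (CommRingCat.of AG)).hom.hom hf
      rwa [Ideal.map_map, ← CommRingCat.hom_comp, Iso.inv_hom_id, CommRingCat.hom_id, Ideal.map_id] at this
    rw [basicOpen_eq_of_affine' (R := CommRingCat.of AG)]
    exact not_not_intro (hle hf')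
  · intro hz a ha
    have := hz _ (Ideal.mem_map_of_mem (Scheme.ΓSpecIso (CommRingCat.of AG)).inv.hom ha)
    rw [basicOpen_eq_of_affine] at this
    exact not_not.1 this

theorem idealSpec_inj {A : Type u} [CommRing A] {I J : Ideal A} (h : FSch.idealSpec A I = FSch.idealSpec A J) :
    I = J := by
  have h' : I.map (Scheme.ΓSpecIso (CommRingCat.of A)).inv.hom = J.map (Scheme.ΓSpecIso (CommRingCat.of A)).inv.hom :=
    (S3873.idealSpec_top A I).symm.trans ((congrArg (fun K : (Spec (CommRingCat.of A)).IdealSheafData =>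
      K.ideal ⟨⊤, isAffineOpen_top _⟩) h).trans (S3873.idealSpec_top A J))
  have h2 := congrArg (Ideal.map (Scheme.ΓSpecIso (CommRingCat.of A)).hom.hom) h'
  rw [Ideal.map_map, Ideal.map_map, ← CommRingCat.hom_comp, Iso.inv_hom_id, CommRingCat.hom_id] at h2
  simpa using h2

include hq in
theorem map_zIdeal (Z : TopologicalSpace.Closeds Q.left) :
    (zIdeal q Z).map (deltaR ψ).toRingHom =
      (zIdeal q Z).map (Algebra.TensorProduct.includeLeft : AG →ₐ[k] AG ⊗[k] AH).toRingHom := by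
  have he : Spec.map (CommRingCat.ofHom (Algebra.TensorProduct.includeLeft : AG →ₐ[k] AG ⊗[k] AH).toRingHom) ≫
      qS q = Spec.map (CommRingCat.ofHom (deltaR ψ).toRingHom) ≫ qS q :=
    congrArg CommaMorphism.left (pt_comp_eq ψ q hq)
  have h := congrArg (fun f => (Scheme.IdealSheafData.vanishingIdeal Z).comap f) he
  simp only [Scheme.IdealSheafData.comap_comp, idealSpec_zIdeal, S3873.result] at h
  exact (idealSpec_inj h).symm

omit [IsMonHom (CoactBr.pt (ψ : AG →ₐ[k] AH))] in
theorem mem_range_rTensor {J : Ideal AG} {z : AG ⊗[k] AH}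
    (hz : z ∈ J.map (Algebra.TensorProduct.includeLeft : AG →ₐ[k] AG ⊗[k] AH).toRingHom) :
    z ∈ LinearMap.range ((J.restrictScalars k).subtype.rTensor AH) := by
  refine Submodule.span_induction (p := fun z _ => z ∈ LinearMap.range ((J.restrictScalars k).subtype.rTensor AH))
    ?_ (zero_mem _) (fun _ _ _ _ hx hy => add_mem hx hy) ?_ hz
  · rintro _ ⟨j, hj, rfl⟩
    exact ⟨(⟨j, hj⟩ : J.restrictScalars k) ⊗ₜ (1 : AH), by simp⟩
  · rintro r x - ⟨w, rfl⟩
    induction r with
    | zero => simp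
    | add r s hr hs => rw [add_smul]; exact add_mem hr hs
    | tmul p c =>
      induction w with
      | zero => simp
      | add v w hv hw => rw [map_add, smul_add]; exact add_mem hv hw
      | tmul j d =>
        refine ⟨(⟨p * j.1, J.mul_mem_left p j.2⟩ : J.restrictScalars k) ⊗ₜ (c * d), ?_⟩
        simp

include hq in
/-- The quotient is affine. -/
theorem isAffine (hH : HopfRep.IsLinearlyReductive k AH) : IsAffine Q.left := by
  letI c : HopfRep.Comod k AH AG := GLin.comodAlong ψ (HopfRep.Comod.regular k AG)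
  have hc : ∀ x, c.coact x = deltaR ψ x := fun x => rfl
  let Zc : Q.left.affineOpens → TopologicalSpace.Closeds Q.left := fun V =>
    ⟨(V.1 : Set Q.left)ᶜ, V.1.isOpen.isClosed_compl⟩
  let 𝔄 : Q.left.affineOpens → Submodule k AG := fun V => (zIdeal q (Zc V)).restrictScalars k
  have hstab : ∀ V, HopfRep.IsSubcomod (k := k) (A := AH) (𝔄 V) := fun V w hw => by
    rw [hc]
    refine mem_range_rTensor ?_
    rw [← map_zIdeal ψ q hq (Zc V)]
    exact Ideal.mem_map_of_mem _ hw
  have htop : (⨆ V, zIdeal q (Zc V)) = ⊤ := by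
    by_contra h
    obtain ⟨m, hm, hle⟩ := Ideal.exists_le_maximal _ h
    let p : Spec (CommRingCat.of AG) := ⟨m, hm.isPrime⟩
    obtain ⟨V, hV, hpV, -⟩ := exists_isAffineOpen_mem_and_subset (U := ⊤) (show qS q p ∈ (⊤ : Q.left.Opens) from trivial)
    exact (le_iff_mem q (Zc ⟨V, hV⟩) p).1 ((le_iSup (fun V => zIdeal q (Zc V)) ⟨V, hV⟩).trans hle) hpV
  have h1 : (1 : AG) ∈ (⨆ V, 𝔄 V) ⊓ HopfRep.fixedPts k AH AG := by
    refine ⟨?_, ?_⟩
    · have : (1 : AG) ∈ ⨆ V, zIdeal q (Zc V) := htop ▸ trivial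
      refine Submodule.iSup_induction (fun V => zIdeal q (Zc V)) (motive := fun y => y ∈ ⨆ V, 𝔄 V) this
        (fun V y hy => Submodule.mem_iSup_of_mem V hy) (zero_mem _) fun _ _ hx hy => add_mem hx hy
    · show c.coact 1 = _
      rw [hc, map_one]
      rfl
  rw [Comodule.ReynoldsOp.iSup_inf_invariants hH 𝔄 hstab] at h1
  let S : Set Γ(Q.left, ⊤) := {b | ∃ V, qΓ q b ∈ zIdeal q (Zc V)}
  have hspan : Ideal.span S = ⊤ := by
    rw [Ideal.eq_top_iff_one]
    obtain ⟨b, hb, hb1⟩ : ∃ b ∈ Ideal.span S, qΓ q b = 1 := by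
      refine Submodule.iSup_induction _ (motive := fun y => ∃ b ∈ Ideal.span S, qΓ q b = y) h1
        (fun V y hy => ?_) ⟨0, zero_mem _, map_zero _⟩ ?_
      · obtain ⟨b, rfl⟩ := exists_qΓ ψ q hq ((hc y).symm.trans hy.2)
        exact ⟨b, Ideal.subset_span ⟨V, hy.1⟩, rfl⟩
      · rintro _ _ ⟨b₁, h₁, rfl⟩ ⟨b₂, h₂, rfl⟩
        exact ⟨b₁ + b₂, add_mem h₁ h₂, map_add _ _ _⟩
    rwa [qΓ_injective ψ q hq (hb1.trans (map_one _).symm)] at hb
  refine isAffine_of_isAffineOpen_basicOpen S hspan ?_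
  rintro b ⟨V, hb⟩
  have hle : Q.left.basicOpen b ≤ V.1 := by
    intro y hy
    obtain ⟨p, rfl⟩ := hq.1.surj y
    by_contra hp
    have hp' : (show Spec (CommRingCat.of AG) from p) ∈ qS q ⁻¹ᵁ Q.left.basicOpen b := hy
    rw [Scheme.preimage_basicOpen_top, basicOpen_eq_of_affine'] at hp'
    exact hp' ((le_iff_mem q (Zc V) p).2 hp hb)
  have h := V.2.basicOpen (Q.left.presheaf.map (homOfLE le_top).op b)
  rwa [Scheme.basicOpen_res, inf_eq_right.2 hle] at h

end Groth.Agent.LinRedQuot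

end
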